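import Mathlib

open CategoryTheory CategoryTheory.Limits

namespace Helper5.SubObj

universe v u
variable {A : Type u} [Category.{v} A] [Abelian A] {X : A}

/-- If `p` is epi and `p ≫ w.arrow` factors through `t` then `w ≤ t`. -/
lemma le_of_epi_factors {w t : Subobject X} {P : A} (p : P ⟶ (w : A)) [Epi p]
    (h : t.Factors (p ≫ w.arrow)) : w ≤ t := by
  have h0 : w.arrow ≫ cokernel.π t.arrow = 0 := by
    rw [← cancel_epi p, comp_zero, ← Category.assoc, ← t.factorThru_arrow _ h, Category.assoc,
      cokernel.condition, comp_zero]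
  exact Subobject.le_of_comm (Abelian.monoLift t.arrow w.arrow h0) (Abelian.monoLift_comp _ _ _)

/-- A morphism out of `x ⊔ y` vanishing on `x` and on `y` is zero. -/
lemma eq_zero_of_sup {x y : Subobject X} {Z : A} (c : ((x ⊔ y : Subobject X) : A) ⟶ Z)
    (hx : Subobject.ofLE x (x ⊔ y) le_sup_left ≫ c = 0)
    (hy : Subobject.ofLE y (x ⊔ y) le_sup_right ≫ c = 0) : c = 0 := by
  have hxK : x ≤ Subobject.mk (kernel.ι c ≫ (x ⊔ y).arrow) :=
    Subobject.le_mk_of_comm (kernel.lift c _ hx) (by simp)
  have hyK : y ≤ Subobject.mk (kernel.ι c ≫ (x ⊔ y).arrow) :=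
    Subobject.le_mk_of_comm (kernel.lift c _ hy) (by simp)
  have hK : x ⊔ y ≤ Subobject.mk (kernel.ι c ≫ (x ⊔ y).arrow) := sup_le hxK hyK
  have h1 : Subobject.ofLEMk _ _ hK ≫ kernel.ι c = 𝟙 _ := by
    rw [← cancel_mono (x ⊔ y).arrow, Category.assoc, Subobject.ofLEMk_comp, Category.id_comp]
  calc c = (Subobject.ofLEMk _ _ hK ≫ kernel.ι c) ≫ c := by rw [h1, Category.id_comp]
    _ = 0 := by rw [Category.assoc, kernel.condition, comp_zero]

instance epi_biprod_desc (x y : Subobject X) :
    Epi (biprod.desc (Subobject.ofLE x (x ⊔ y) le_sup_left)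
      (Subobject.ofLE y (x ⊔ y) le_sup_right)) := by
  apply Preadditive.epi_of_cancel_zero
  intro Z c hc
  apply eq_zero_of_sup
  · have := congrArg (fun t => biprod.inl ≫ t) hc
    simpa using this
  · have := congrArg (fun t => biprod.inr ≫ t) hc
    simpa using this

instance : IsModularLattice (Subobject X) where
  sup_inf_le_assoc_of_le := by
    intro x y z hxz
    let q := biprod.desc (Subobject.ofLE x (x ⊔ y) le_sup_left)
      (Subobject.ofLE y (x ⊔ y) le_sup_right)
    let i := Subobject.ofLE ((x ⊔ y) ⊓ z) (x ⊔ y) inf_le_left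
    let p₁ := pullback.fst i q
    let p₂ := pullback.snd i q
    have : Epi p₁ := Abelian.epi_pullback_of_epi_g i q
    have key : p₁ ≫ ((x ⊔ y) ⊓ z).arrow =
        (p₂ ≫ biprod.fst) ≫ x.arrow + (p₂ ≫ biprod.snd) ≫ y.arrow := by
      have h1 : p₁ ≫ ((x ⊔ y) ⊓ z).arrow = p₂ ≫ q ≫ (x ⊔ y).arrow := by
        rw [← Subobject.ofLE_arrow (inf_le_left : (x ⊔ y) ⊓ z ≤ x ⊔ y), ← Category.assoc,
          ← Category.assoc]
        congr 1
        exact pullback.condition
      have h2 : q ≫ (x ⊔ y).arrow = biprod.desc x.arrow y.arrow := by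
        apply biprod.hom_ext' <;> simp [q]
      rw [h1, h2]
      rw [biprod.desc_eq, Preadditive.comp_add, Category.assoc, Category.assoc]
    apply le_of_epi_factors p₁
    have hz : z.Factors (p₁ ≫ ((x ⊔ y) ⊓ z).arrow) :=
      Subobject.factors_of_le _ inf_le_right (Subobject.factors_comp_arrow _)
    rw [key] at hz ⊢
    have hxa : x.Factors ((p₂ ≫ biprod.fst) ≫ x.arrow) := Subobject.factors_comp_arrow _
    have hyb : y.Factors ((p₂ ≫ biprod.snd) ≫ y.arrow) := Subobject.factors_comp_arrow _
    have hzb : z.Factors ((p₂ ≫ biprod.snd) ≫ y.arrow) :=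
      Subobject.factors_right_of_factors_add _ _ hz (Subobject.factors_of_le _ hxz hxa)
    apply Subobject.factors_add
    · exact Subobject.factors_of_le _ le_sup_left hxa
    · exact Subobject.factors_of_le _ le_sup_right ((Subobject.inf_factors _).2 ⟨hyb, hzb⟩)


/-- (B1) a simple quotient gives a covering relation. -/
lemma covBy_of_simple {Y Z : Subobject X} (h : Y ≤ Z)
    (hs : Simple (cokernel (Subobject.ofLE Y Z h))) : Y ⋖ Z := by
  have hne : Y ≠ Z := by
    rintro rfl
    have : IsIso (Subobject.ofLE Y Y h) := by rw [Subobject.ofLE_refl]; infer_instance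
    exact Simple.not_isZero (cokernel (Subobject.ofLE Y Y h)) (isZero_cokernel_of_epi (Subobject.ofLE Y Y h))
  refine ⟨lt_of_le_of_ne h hne, ?_⟩
  intro W hYW hWZ
  by_cases hg : Subobject.ofLE W Z hWZ.le ≫ cokernel.π (Subobject.ofLE Y Z h) = 0
  · have : W ≤ Y := by
      refine Subobject.le_of_comm
        (Abelian.monoLift (Subobject.ofLE Y Z h) (Subobject.ofLE W Z hWZ.le) hg) ?_
      rw [← Subobject.ofLE_arrow h, ← Category.assoc, Abelian.monoLift_comp, Subobject.ofLE_arrow]
    exact absurd hYW (not_lt_of_ge this)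
  · have hepi : Epi (Subobject.ofLE W Z hWZ.le ≫ cokernel.π (Subobject.ofLE Y Z h)) :=
      epi_of_nonzero_to_simple hg
    have : Epi (Subobject.ofLE W Z hWZ.le) := by
      apply Preadditive.epi_of_cancel_zero
      intro T c hc
      have h1 : Subobject.ofLE Y Z h ≫ c = 0 := by
        rw [← Subobject.ofLE_comp_ofLE Y W Z hYW.le hWZ.le, Category.assoc, hc, comp_zero]
      have h2 : c = cokernel.π (Subobject.ofLE Y Z h) ≫ cokernel.desc _ c h1 := by simp
      have h3 : cokernel.desc _ c h1 = 0 := by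
        rw [← cancel_epi (Subobject.ofLE W Z hWZ.le ≫ cokernel.π (Subobject.ofLE Y Z h)),
          Category.assoc, cokernel.π_desc, hc, comp_zero]
      rw [h2, h3, comp_zero]
    have : IsIso (Subobject.ofLE W Z hWZ.le) := isIso_of_mono_of_epi _
    have : Z ≤ W := Subobject.le_of_comm (inv (Subobject.ofLE W Z hWZ.le)) (by simp)
    exact absurd hWZ (not_lt_of_ge this)

/-- (B2) a covering relation gives a simple quotient. -/
lemma simple_of_covBy {Y Z : Subobject X} (h : Y ≤ Z) (hc : Y ⋖ Z) :
    Simple (cokernel (Subobject.ofLE Y Z h)) := by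
  constructor
  intro S f _
  have hnz : ¬ IsZero (cokernel (Subobject.ofLE Y Z h)) := by
    intro h0
    have : Epi (Subobject.ofLE Y Z h) := by
      apply Preadditive.epi_of_cancel_zero
      intro T c hc'
      have h2 : c = cokernel.π (Subobject.ofLE Y Z h) ≫ cokernel.desc _ c hc' := by simp
      rw [h2, h0.eq_of_src (cokernel.desc _ c hc') 0, comp_zero]
    have : IsIso (Subobject.ofLE Y Z h) := isIso_of_mono_of_epi _
    have : Z ≤ Y := Subobject.le_of_comm (inv (Subobject.ofLE Y Z h)) (by simp)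
    exact absurd hc.lt (not_lt_of_ge this)
  constructor
  · intro hf hf0
    subst hf0
    exact hnz ((IsZero.iff_id_eq_zero _).2 (by rw [← IsIso.inv_hom_id (0 : S ⟶ _), comp_zero]))
  · intro hf0
    have hYW : Y ≤ Subobject.mk (pullback.fst (cokernel.π (Subobject.ofLE Y Z h)) f ≫ Z.arrow) :=
      Subobject.le_mk_of_comm (pullback.lift (Subobject.ofLE Y Z h) 0 (by simp)) (by rw [pullback.lift_fst_assoc, Subobject.ofLE_arrow])
    have hWZ : Subobject.mk (pullback.fst (cokernel.π (Subobject.ofLE Y Z h)) f ≫ Z.arrow) ≤ Z :=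
      Subobject.mk_le_of_comm (pullback.fst _ f) rfl
    rcases hc.eq_or_eq hYW hWZ with hW | hW
    · exfalso
      apply hf0
      have h1 : pullback.fst (cokernel.π (Subobject.ofLE Y Z h)) f =
          Subobject.ofMkLE _ Y hW.le ≫ Subobject.ofLE Y Z h := by
        rw [← cancel_mono Z.arrow, Category.assoc, Subobject.ofLE_arrow, Subobject.ofMkLE_arrow]
      have h2 : pullback.snd (cokernel.π (Subobject.ofLE Y Z h)) f ≫ f = 0 := by
        rw [← pullback.condition, h1, Category.assoc, cokernel.condition, comp_zero]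
      have : Epi (pullback.snd (cokernel.π (Subobject.ofLE Y Z h)) f) :=
        Abelian.epi_pullback_of_epi_f _ _
      rw [← cancel_epi (pullback.snd (cokernel.π (Subobject.ofLE Y Z h)) f), h2, comp_zero]
    · have h1 : Subobject.ofLEMk Z _ hW.ge ≫
          pullback.fst (cokernel.π (Subobject.ofLE Y Z h)) f = 𝟙 _ := by
        rw [← cancel_mono Z.arrow, Category.assoc, Subobject.ofLEMk_comp, Category.id_comp]
      have h2 : cokernel.π (Subobject.ofLE Y Z h) =
          (Subobject.ofLEMk Z _ hW.ge ≫ pullback.snd (cokernel.π (Subobject.ofLE Y Z h)) f) ≫ f := by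
        rw [Category.assoc, ← pullback.condition, ← Category.assoc, h1, Category.id_comp]
      have : Epi ((Subobject.ofLEMk Z _ hW.ge ≫
          pullback.snd (cokernel.π (Subobject.ofLE Y Z h)) f) ≫ f) := by
        rw [← h2]; infer_instance
      have : Epi f := epi_of_epi (Subobject.ofLEMk Z _ hW.ge ≫
          pullback.snd (cokernel.π (Subobject.ofLE Y Z h)) f) f
      exact isIso_of_mono_of_epi f

/-- (C) second isomorphism theorem for subobjects. -/
lemma nonempty_secondIso (x y : Subobject X) :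
    Nonempty (cokernel (Subobject.ofLE (x ⊓ y) y inf_le_right) ≅
      cokernel (Subobject.ofLE x (x ⊔ y) le_sup_left)) := by
  have hepi : Epi (Subobject.ofLE y (x ⊔ y) le_sup_right ≫
      cokernel.π (Subobject.ofLE x (x ⊔ y) le_sup_left)) := by
    apply Preadditive.epi_of_cancel_zero
    intro T c hc
    have h1 : cokernel.π (Subobject.ofLE x (x ⊔ y) le_sup_left) ≫ c = 0 := by
      apply eq_zero_of_sup
      · rw [cokernel.condition_assoc, zero_comp]
      · rw [← Category.assoc]; exact hc
    rw [← cancel_epi (cokernel.π (Subobject.ofLE x (x ⊔ y) le_sup_left)), h1, comp_zero]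
  have w : Subobject.ofLE (x ⊓ y) y inf_le_right ≫ (Subobject.ofLE y (x ⊔ y) le_sup_right ≫
      cokernel.π (Subobject.ofLE x (x ⊔ y) le_sup_left)) = 0 := by
    rw [← Category.assoc, Subobject.ofLE_comp_ofLE,
      ← Subobject.ofLE_comp_ofLE (x ⊓ y) x (x ⊔ y) inf_le_left le_sup_left, Category.assoc,
      cokernel.condition, comp_zero]
  have hker : IsLimit (KernelFork.ofι _ w) := KernelFork.IsLimit.ofι' _ _ (fun {T} k hk => by
    have hk' : (k ≫ Subobject.ofLE y (x ⊔ y) le_sup_right) ≫
        cokernel.π (Subobject.ofLE x (x ⊔ y) le_sup_left) = 0 := by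
      rw [Category.assoc]; exact hk
    have hfx : x.Factors (k ≫ y.arrow) := by
      have : k ≫ y.arrow = Abelian.monoLift _ _ hk' ≫ x.arrow := by
        rw [← Subobject.ofLE_arrow (le_sup_left : x ≤ x ⊔ y), ← Category.assoc,
          Abelian.monoLift_comp, Category.assoc, Subobject.ofLE_arrow]
      rw [this]; exact Subobject.factors_comp_arrow _
    have hf : (x ⊓ y).Factors (k ≫ y.arrow) :=
      (Subobject.inf_factors _).2 ⟨hfx, Subobject.factors_comp_arrow _⟩
    refine ⟨(x ⊓ y).factorThru _ hf, ?_⟩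
    rw [← cancel_mono y.arrow, Category.assoc, Subobject.ofLE_arrow, Subobject.factorThru_arrow])
  exact ⟨IsColimit.coconePointUniqueUpToIso (colimit.isColimit _)
    (Abelian.epiIsCokernelOfKernel _ hker)⟩

end Helper5.SubObj
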