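import Mathlib
import Groth.Agent.Lib.Helper5.SubObj.Basic

open CategoryTheory CategoryTheory.Limits

namespace Helper5.SubObj

section lattice
variable {α : Type*} [Lattice α] [IsModularLattice α]

lemma wf_Iic_step {b c : α} (hbc : b ⩿ c)
    (hb : WellFoundedLT (Set.Iic b) ∧ WellFoundedGT (Set.Iic b)) :
    WellFoundedLT (Set.Iic c) ∧ WellFoundedGT (Set.Iic c) := by
  obtain ⟨hb1, hb2⟩ := hb
  have hfin : Finite (Set.Icc b c) := by
    rw [hbc.Icc_eq]; exact Set.finite_insert.2 (Set.finite_singleton c) |>.to_subtype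
  let g : Set.Iic c → Set.Iic b × Set.Icc b c := fun x =>
    (⟨x.1 ⊓ b, inf_le_right⟩, ⟨x.1 ⊔ b, le_sup_right, sup_le x.2 hbc.le⟩)
  have hg : StrictMono g := by
    intro x y hxy
    have := strictMono_inf_prod_sup (z := b) (show x.1 < y.1 from hxy)
    exact this
  exact ⟨hg.wellFoundedLT, hg.wellFoundedGT⟩

lemma wf_of_wcovBy_chain [BoundedOrder α] (n : ℕ) (a : Fin (n + 1) → α) (h0 : a 0 = ⊥)
    (hn : a (Fin.last n) = ⊤)
    (hc : ∀ i : Fin n, a i.castSucc ⩿ a i.succ) : WellFoundedLT α ∧ WellFoundedGT α := by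
  have key : ∀ i : Fin (n + 1),
      WellFoundedLT (Set.Iic (a i)) ∧ WellFoundedGT (Set.Iic (a i)) := by
    intro i
    induction i using Fin.induction with
    | zero =>
      have : Finite (Set.Iic (a 0)) := by
        rw [h0, Set.Iic_bot]; exact (Set.finite_singleton _).to_subtype
      exact ⟨inferInstance, inferInstance⟩
    | succ i ih => exact wf_Iic_step (hc i) ih
  obtain ⟨h1, h2⟩ := key (Fin.last n)
  let g : α → Set.Iic (a (Fin.last n)) := fun x => ⟨x, by rw [hn]; exact le_top⟩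
  have hg : StrictMono g := fun x y hxy => hxy
  exact ⟨hg.wellFoundedLT, hg.wellFoundedGT⟩

end lattice

end Helper5.SubObj
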