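import Mathlib
import Groth.Agent.Lib.Helper5.SubObj.Basic

open CategoryTheory CategoryTheory.Limits

namespace Helper5.SubObj

universe v u
variable {A : Type u} [Category.{v} A] [Abelian A] {X : A}

/-- the relation "isomorphic quotients" on pairs of subobjects. -/
def QuotIso (p q : Subobject X × Subobject X) : Prop :=
  (p.1 ≤ p.2 ↔ q.1 ≤ q.2) ∧ ∀ (h₁ : p.1 ≤ p.2) (h₂ : q.1 ≤ q.2),
    Nonempty (cokernel (Subobject.ofLE p.1 p.2 h₁) ≅ cokernel (Subobject.ofLE q.1 q.2 h₂))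

lemma quotIso_of_iso {p q : Subobject X × Subobject X} (h : JordanHolderLattice.Iso p q) :
    QuotIso p q := by
  refine JordanHolderLattice.Iso.rel QuotIso ?_ ?_ ?_ ?_ h
  · intro x; exact ⟨Iff.rfl, fun h₁ h₂ => ⟨Iso.refl _⟩⟩
  · intro x y h; exact ⟨h.1.symm, fun h₁ h₂ => ⟨(h.2 h₂ h₁).some.symm⟩⟩
  · intro x y z h1 h2
    exact ⟨h1.1.trans h2.1, fun h₁ h₃ =>
      ⟨(h1.2 h₁ (h1.1.1 h₁)).some ≪≫ (h2.2 _ h₃).some⟩⟩
  · intro x y _
    exact ⟨⟨fun _ => inf_le_right, fun _ => le_sup_left⟩,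
      fun h₁ h₂ => (nonempty_secondIso x y).map Iso.symm⟩

theorem jordanHolder (n : ℕ) (F : Fin (n + 1) → Subobject X) (hF : Monotone F)
    (hF0 : F 0 = ⊥) (hFn : F (Fin.last n) = ⊤)
    (hFs : ∀ i : Fin n, Simple (cokernel (Subobject.ofLE (F (Fin.castSucc i)) (F (Fin.succ i))
      (hF (Fin.castSucc_lt_succ (i := i)).le))))
    (m : ℕ) (G : Fin (m + 1) → Subobject X) (hG : Monotone G)
    (hG0 : G 0 = ⊥) (hGm : G (Fin.last m) = ⊤)
    (hGs : ∀ j : Fin m, Simple (cokernel (Subobject.ofLE (G (Fin.castSucc j)) (G (Fin.succ j))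
      (hG (Fin.castSucc_lt_succ (i := j)).le)))) :
    ∃ f : Fin n ≃ Fin m, ∀ i : Fin n,
      Nonempty (cokernel (Subobject.ofLE (F (Fin.castSucc i)) (F (Fin.succ i))
          (hF (Fin.castSucc_lt_succ (i := i)).le)) ≅
        cokernel (Subobject.ofLE (G (Fin.castSucc (f i))) (G (Fin.succ (f i)))
          (hG (Fin.castSucc_lt_succ (i := f i)).le))) := by
  let s₁ : CompositionSeries (Subobject X) :=
    { length := n, toFun := F, step := fun i => covBy_of_simple _ (hFs i) }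
  let s₂ : CompositionSeries (Subobject X) :=
    { length := m, toFun := G, step := fun i => covBy_of_simple _ (hGs i) }
  obtain ⟨f, hf⟩ := CompositionSeries.jordan_holder s₁ s₂ (hF0.trans hG0.symm)
    (hFn.trans hGm.symm)
  exact ⟨f, fun i => (quotIso_of_iso (hf i)).2 _ _⟩

end Helper5.SubObj
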